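import Mathlib
import Groth.Prelude.Def_VecGrp
import Groth.Agent.AntiAffActLib.Main
import Groth.Agent.GrpSchLib.Basic

/-! Representations of anti-affine groups on points. -/

set_option autoImplicit false
set_option maxHeartbeats 1000000
universe u

open CategoryTheory CategoryTheory.Limits MonoidalCategory CartesianMonoidalCategory MonObj AlgebraicGeometry TensorProduct
open Opposite TopologicalSpace

namespace Groth.Agent.AntiAffActLib

attribute [-instance] CategoryTheory.Hom.commGroup

noncomputable section

variable {k : Type u} [Field k] {G : Over (Spec (CommRingCat.of k))}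

theorem fromSpec_appTop {X : Scheme.{u}} {U : X.Opens} (hU : IsAffineOpen U) :
    hU.fromSpec.appTop = X.presheaf.map (homOfLE le_top).op ≫ (Scheme.ΓSpecIso Γ(X, U)).inv := by
  show hU.fromSpec.app ⊤ = _
  rw [IsAffineOpen.fromSpec_app_of_le hU ⊤ le_top]
  congr 1

/-- The algebra structure on the functions on an open subscheme. -/
@[reducible] def algU (U : G.left.Opens) : Algebra k Γ(G.left, U) :=
  ((Scheme.ΓSpecIso (CommRingCat.of k)).inv ≫ G.hom.appTop ≫ G.left.presheaf.map (homOfLE le_top).op).hom.toAlgebra

/-- The tautological point on an affine open. -/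
def ptU {U : G.left.Opens} (hU : IsAffineOpen U) :
    letI := algU (k := k) U
    VecGrp.pt k Γ(G.left, U) ⟶ G :=
  letI := algU (k := k) U
  Over.homMk hU.fromSpec (by
    refine ext_of_isAffine ?_
    show (hU.fromSpec ≫ G.hom).appTop = (Spec.map (CommRingCat.ofHom (algebraMap k Γ(G.left, U)))).appTop
    rw [Scheme.Hom.comp_appTop, fromSpec_appTop, ← cancel_epi (Scheme.ΓSpecIso (CommRingCat.of k)).inv,
      ← Scheme.ΓSpecIso_inv_naturality]
    show _ = ((Scheme.ΓSpecIso (CommRingCat.of k)).inv ≫ G.hom.appTop ≫ G.left.presheaf.map (homOfLE le_top).op) ≫ _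
    simp only [Category.assoc]
    rfl)

/-- Restriction as an algebra map. -/
def resU {U W : G.left.Opens} (h : W ≤ U) :
    letI := algU (k := k) U
    letI := algU (k := k) W
    Γ(G.left, U) →ₐ[k] Γ(G.left, W) :=
  letI := algU (k := k) U
  letI := algU (k := k) W
  { (G.left.presheaf.map (homOfLE h).op).hom with
    commutes' := fun c => by
      show (G.left.presheaf.map (homOfLE h).op).hom ((G.left.presheaf.map (homOfLE le_top).op).hom _) = _
      rw [← ConcreteCategory.comp_apply, ← G.left.presheaf.map_comp]
      rfl }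

variable [GrpObj G]

/-- An anti-affine group acts trivially on every finite free module. -/
theorem gmod_trivial [LocallyOfFiniteType G.hom] [QuasiCompact G.hom]
    (hG : Function.Bijective ((Scheme.ΓSpecIso (CommRingCat.of k)).inv ≫ G.hom.appTop).hom)
    (M : Type u) [AddCommGroup M] [Module k M] [Module.Finite k M] (m : VecGrp.GMod G M)
    (B : Type u) [CommRing B] [Algebra k B] (g : VecGrp.pt k B ⟶ G) : m.ρ B g = 1 := by
  classical
  haveI : IsSeparated G.hom := GrpSchLib.isSeparated_hom
  haveI : G.left.IsSeparated := ⟨by rw [show terminal.from G.left = G.hom ≫ terminal.from _ from terminal.hom_ext _ _]; infer_instance⟩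
  let b := Module.finBasis k M
  let e : ∀ (B : Type u) [CommRing B] [Algebra k B], (VecGrp.pt k B ⟶ G) →
      Fin (Module.finrank k M) → Fin (Module.finrank k M) → B :=
    fun B _ _ g i j => (Algebra.TensorProduct.basis B b).repr (m.ρ B g (1 ⊗ₜ b j)) i
  have hW : ∀ (B B' : Type u) [CommRing B] [Algebra k B] [CommRing B'] [Algebra k B'] (φ : B →ₐ[k] B')
      (z : VecGrp.W k M B) i, (Algebra.TensorProduct.basis B' b).repr (VecGrp.Wmap φ z) i =
      φ ((Algebra.TensorProduct.basis B b).repr z i) := by
    intro B B' _ _ _ _ φ z i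
    induction z using TensorProduct.induction_on with
    | zero => simp
    | tmul x y => simp [Algebra.TensorProduct.basis_repr_tmul, Algebra.smul_def, map_mul]
    | add x y hx hy => simp only [map_add, Finsupp.add_apply, hx, hy]
  have he : ∀ (B B' : Type u) [CommRing B] [Algebra k B] [CommRing B'] [Algebra k B'] (φ : B →ₐ[k] B')
      (g : VecGrp.pt k B ⟶ G) i j, e B' (VecGrp.ptMap φ ≫ g) i j = φ (e B g i j) := by
    intro B B' _ _ _ _ φ g i j
    have h := congrArg (fun z => (Algebra.TensorProduct.basis B' b).repr z i) (m.naturality φ g (1 ⊗ₜ b j))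
    simp only [hW, VecGrp.Wmap_tmul, map_one] at h
    exact h.symm
  -- the coefficients are constants
  have hconst : ∀ i j, ∃ c : k, ∀ (U : G.left.affineOpens),
      letI := algU (k := k) (U : G.left.Opens)
      e Γ(G.left, (U : G.left.Opens)) (ptU U.2) i j = algebraMap k _ c := by
    intro i j
    let sf : ∀ U : G.left.affineOpens, Γ(G.left, (U : G.left.Opens)) := fun U =>
      letI := algU (k := k) (U : G.left.Opens)
      e Γ(G.left, (U : G.left.Opens)) (ptU U.2) i j
    have hres : ∀ (U W : G.left.affineOpens) (h : (W : G.left.Opens) ≤ U),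
        (G.left.presheaf.map (homOfLE h).op).hom (sf U) = sf W := by
      intro U W h
      letI := algU (k := k) (U : G.left.Opens)
      letI := algU (k := k) (W : G.left.Opens)
      have h1 := he _ _ (resU h) (ptU U.2) i j
      rw [show VecGrp.ptMap (resU h) ≫ ptU U.2 = ptU (k := k) W.2 from
        Over.OverMorphism.ext (IsAffineOpen.map_fromSpec U.2 W.2 (homOfLE h).op)] at h1
      exact h1.symm
    have hcov : (⊤ : G.left.Opens) ≤ iSup fun U : G.left.affineOpens => (U : G.left.Opens) := fun x _ => by
      obtain ⟨U, hU, hx, -⟩ := exists_isAffineOpen_mem_and_subset (U := (⊤ : G.left.Opens)) (x := x) trivial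
      exact Opens.mem_iSup.2 ⟨⟨U, hU⟩, hx⟩
    obtain ⟨s, hs, -⟩ := G.left.sheaf.existsUnique_gluing' (fun U : G.left.affineOpens => (U : G.left.Opens)) ⊤
      (fun U => homOfLE le_top) hcov sf (fun U V => by
        have hUV : IsAffineOpen ((U : G.left.Opens) ⊓ V) := U.2.inf V.2
        exact (hres U ⟨_, hUV⟩ inf_le_left).trans (hres V ⟨_, hUV⟩ inf_le_right).symm)
    obtain ⟨c, rfl⟩ := hG.2 s
    exact ⟨c, fun U => (hs U).symm⟩
  choose c hc using hconst
  have key : ∀ (B : Type u) [CommRing B] [Algebra k B] (g : VecGrp.pt k B ⟶ G) i j,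
      e B g i j = algebraMap k B (c i j) := by
    intro B _ _ g i j
    have hcover : ∀ p : PrimeSpectrum B, ∃ (r : B), r ∉ p.asIdeal ∧
        algebraMap B (Localization.Away r) (e B g i j - algebraMap k B (c i j)) = 0 := by
      intro p
      obtain ⟨U, hU, hx, -⟩ := exists_isAffineOpen_mem_and_subset (U := (⊤ : G.left.Opens)) (x := g.left p) trivial
      let V : Set (PrimeSpectrum B) := {q | g.left q ∈ U}
      have hVo : IsOpen V := (g.left ⁻¹ᵁ U).isOpen
      obtain ⟨_, ⟨r, rfl⟩, hpr, hrU⟩ := PrimeSpectrum.isTopologicalBasis_basic_opens.exists_subset_of_mem_open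
        (show p ∈ V from hx) hVo
      refine ⟨r, hpr, ?_⟩
      letI := algU (k := k) U
      let φ : B →ₐ[k] Localization.Away r := IsScalarTower.toAlgHom k B _
      let g' := VecGrp.ptMap φ ≫ g
      have hr : Set.range g'.left ⊆ Set.range hU.fromSpec := by
        rw [IsAffineOpen.range_fromSpec]
        rintro _ ⟨q, rfl⟩
        apply hrU
        show PrimeSpectrum.comap (algebraMap B (Localization.Away r)) q ∈ PrimeSpectrum.basicOpen r
        rw [← SetLike.mem_coe, ← PrimeSpectrum.localization_away_comap_range (Localization.Away r) r]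
        exact ⟨q, rfl⟩
      obtain ⟨ψ, hψ⟩ := Spec.map_surjective (IsOpenImmersion.lift hU.fromSpec g'.left hr)
      have hfac : Spec.map ψ ≫ hU.fromSpec = g'.left := by rw [hψ, IsOpenImmersion.lift_fac]
      let ψ' : Γ(G.left, U) →ₐ[k] Localization.Away r :=
        { ψ.hom with
          commutes' := fun a => by
            have w : Spec.map (CommRingCat.ofHom (algebraMap k Γ(G.left, U)) ≫ ψ) =
                Spec.map (CommRingCat.ofHom (algebraMap k (Localization.Away r))) := by
              have w1 : hU.fromSpec ≫ G.hom = Spec.map (CommRingCat.ofHom (algebraMap k Γ(G.left, U))) := Over.w (ptU hU)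
              have w2 : g'.left ≫ G.hom = Spec.map (CommRingCat.ofHom (algebraMap k (Localization.Away r))) := Over.w g'
              rw [Spec.map_comp, ← w1, reassoc_of% hfac, w2]
            exact ConcreteCategory.congr_hom (Spec.map_injective w) a }
      have h1 := he _ _ ψ' (ptU hU) i j
      rw [show VecGrp.ptMap ψ' ≫ ptU hU = g' from Over.OverMorphism.ext hfac, he, hc i j ⟨U, hU⟩,
        AlgHom.commutes] at h1
      rw [map_sub, ← IsScalarTower.algebraMap_apply]
      exact sub_eq_zero.2 h1
    rw [← sub_eq_zero]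
    by_contra hne
    have hann : Ideal.torsionOf B B (e B g i j - algebraMap k B (c i j)) ≠ ⊤ := fun h =>
      hne ((Ideal.torsionOf_eq_top_iff _ _).1 h)
    obtain ⟨P, hP, hPle⟩ := Ideal.exists_le_maximal _ hann
    obtain ⟨r, hr, h0⟩ := hcover ⟨P, hP.isPrime⟩
    obtain ⟨⟨_, n, rfl⟩, hn⟩ := (IsLocalization.map_eq_zero_iff (Submonoid.powers r) _ _).1 h0
    exact hr (hP.isPrime.mem_of_pow_mem n (hPle hn))
  have hc1 : ∀ i j, c i j = if i = j then 1 else 0 := by
    intro i j
    have h := key k (1 : VecGrp.pt k k ⟶ G) i j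
    simp only [Algebra.algebraMap_self, RingHom.id_apply] at h
    rw [← h]
    simp only [e, map_one]
    show (Algebra.TensorProduct.basis k b).repr (1 ⊗ₜ b j) i = _
    rw [← Algebra.TensorProduct.basis_apply, Module.Basis.repr_self, Finsupp.single_apply]
    simp [eq_comm]
  refine LinearEquiv.toLinearMap_injective ((Algebra.TensorProduct.basis B b).ext fun j => ?_)
  apply (Algebra.TensorProduct.basis B b).repr.injective
  ext i
  rw [Algebra.TensorProduct.basis_apply]
  refine (key B g i j).trans ?_
  show _ = (Algebra.TensorProduct.basis B b).repr (1 ⊗ₜ b j) i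
  rw [← Algebra.TensorProduct.basis_apply, Module.Basis.repr_self, Finsupp.single_apply, hc1]
  split_ifs with h1 h2 h2 <;> simp_all

/-- A group all of whose linear representations are trivial is anti-affine. -/
theorem bijective_of_gmod [LocallyOfFiniteType G.hom] [QuasiCompact G.hom]
    (h : ∀ (M : Type u) [AddCommGroup M] [Module k M] [Module.Finite k M] (m : VecGrp.GMod G M)
      (B : Type u) [CommRing B] [Algebra k B] (g : VecGrp.pt k B ⟶ G), m.ρ B g = 1) :
    Function.Bijective ((Scheme.ΓSpecIso (CommRingCat.of k)).inv ≫ G.hom.appTop).hom := by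
  classical
  refine bijective_of_matrix G fun n m hnat hone hmul => ?_
  let J := ULift.{u} (Fin n)
  let b : Module.Basis J k (J → k) := Pi.basisFun k J
  let mat : ∀ (B : Type u) [CommRing B] [Algebra k B], (VecGrp.pt k B ⟶ G) →* Matrix J J B := fun B _ _ =>
    { toFun := fun g => (Scheme.ΓSpecIso (CommRingCat.of B)).hom.hom.mapMatrix (m (VecGrp.pt k B) g)
      map_one' := by rw [hone]; exact map_one _
      map_mul' := fun g g' => by rw [hmul]; exact map_mul _ _ _ }
  let ρ : ∀ (B : Type u) [CommRing B] [Algebra k B],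
      (VecGrp.pt k B ⟶ G) →* (VecGrp.W k (J → k) B ≃ₗ[B] VecGrp.W k (J → k) B) := fun B _ _ =>
    (LinearMap.GeneralLinearGroup.generalLinearEquiv B (VecGrp.W k (J → k) B)).toMonoidHom.comp
      ((Units.map (Matrix.toLinAlgEquiv (Algebra.TensorProduct.basis B b)).toMonoidHom).comp (mat B).toHomUnits)
  have hρ : ∀ (B : Type u) [CommRing B] [Algebra k B] (g : VecGrp.pt k B ⟶ G) (z : VecGrp.W k (J → k) B),
      ρ B g z = Matrix.toLinAlgEquiv (Algebra.TensorProduct.basis B b) (mat B g) z := fun _ _ _ _ _ => rfl
  let gm : VecGrp.GMod G (J → k) :=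
    { ρ := ρ
      naturality := by
        intro B B' _ _ _ _ φ g z
        have hmat : ∀ i j, mat B' (VecGrp.ptMap φ ≫ g) i j = φ (mat B g i j) := by
          intro i j
          show (Scheme.ΓSpecIso (CommRingCat.of B')).hom.hom (m (VecGrp.pt k B') (VecGrp.ptMap φ ≫ g) i j) =
            φ ((Scheme.ΓSpecIso (CommRingCat.of B)).hom.hom (m (VecGrp.pt k B) g i j))
          rw [hnat]
          exact ConcreteCategory.congr_hom (Scheme.ΓSpecIso_naturality (CommRingCat.ofHom φ.toRingHom)) _
        rw [hρ, hρ]
        induction z using TensorProduct.induction_on with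
        | zero => simp
        | add x y hx hy => simp only [map_add, hx, hy]
        | tmul x y =>
          have e1 : x ⊗ₜ[k] y = ∑ j, (y j • x) • (Algebra.TensorProduct.basis B b) j := by
            refine ((Algebra.TensorProduct.basis B b).sum_repr _).symm.trans (Finset.sum_congr rfl fun j _ => ?_)
            simp [b]
            rw [mul_comm, ← Algebra.smul_def, smul_assoc]
          have e2 : φ x ⊗ₜ[k] y = ∑ j, (y j • φ x) • (Algebra.TensorProduct.basis B' b) j := by
            refine ((Algebra.TensorProduct.basis B' b).sum_repr _).symm.trans (Finset.sum_congr rfl fun j _ => ?_)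
            simp [b]
            rw [mul_comm, ← Algebra.smul_def, smul_assoc]
          rw [VecGrp.Wmap_tmul, e1, e2, map_sum, map_sum, map_sum]
          refine Finset.sum_congr rfl fun j _ => ?_
          rw [LinearMap.map_smul, Matrix.toLinAlgEquiv_self, VecGrp.Wmap_smul, map_smul φ, LinearMap.map_smul,
            Matrix.toLinAlgEquiv_self, map_sum]
          congr 1
          refine Finset.sum_congr rfl fun i _ => ?_
          rw [VecGrp.Wmap_smul, hmat, Algebra.TensorProduct.basis_apply, Algebra.TensorProduct.basis_apply,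
            VecGrp.Wmap_tmul, map_one] }
  intro i j
  refine G.left.sheaf.eq_of_locally_eq' (fun U : G.left.affineOpens => (U : G.left.Opens)) ⊤
    (fun U => homOfLE le_top) (fun x _ => ?_) _ _ (fun U => ?_)
  · obtain ⟨U, hU, hx, -⟩ := exists_isAffineOpen_mem_and_subset (U := (⊤ : G.left.Opens)) (x := x) trivial
    exact Opens.mem_iSup.2 ⟨⟨U, hU⟩, hx⟩
  letI := algU (k := k) (U : G.left.Opens)
  let B : Type u := Γ(G.left, (U : G.left.Opens))
  have hm : mat B (ptU U.2) = 1 := by
    apply (Matrix.toLinAlgEquiv (Algebra.TensorProduct.basis B b)).injective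
    rw [map_one]
    exact LinearMap.ext fun z => (hρ B (ptU U.2) z).symm.trans (LinearEquiv.congr_fun (h (J → k) gm B (ptU U.2)) z)
  have h2 := hnat (ptU (k := k) U.2) (𝟙 G) i j
  rw [Category.comp_id] at h2
  have h3 : (G.left.presheaf.map (homOfLE le_top).op).hom (m G (𝟙 G) i j) = (1 : Matrix J J B) i j := by
    rw [← hm]
    show _ = (Scheme.ΓSpecIso (CommRingCat.of B)).hom.hom (m _ (ptU U.2) i j)
    rw [h2]
    show _ = (Scheme.ΓSpecIso Γ(G.left, (U : G.left.Opens))).hom.hom (U.2.fromSpec.appTop.hom (m G (𝟙 G) i j))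
    rw [fromSpec_appTop, ← ConcreteCategory.comp_apply, Category.assoc, Iso.inv_hom_id, Category.comp_id]
  refine h3.trans ?_
  by_cases hij : i = j
  · subst hij
    rw [Matrix.one_apply_eq, Matrix.one_apply_eq]
    exact (map_one _).symm
  · rw [Matrix.one_apply_ne hij, Matrix.one_apply_ne hij]
    exact (map_zero _).symm

end

end Groth.Agent.AntiAffActLib
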